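import Mathlib
import Groth.Prelude.Def_MoreMor
import Groth.Agent.Lib.Helper7.FinDeg.Chart
import Groth.Agent.Lib.Helper7.CycPull.Main
import Groth.Agent.Lib.Helper6.EtLoc.PIPoint

set_option linter.style.haveILetI false
set_option linter.unusedVariables false
set_option linter.unusedSectionVars false
set_option autoImplicit false
set_option backward.isDefEq.respectTransparency.types false
set_option synthInstance.maxHeartbeats 400000
set_option maxHeartbeats 1600000

namespace Groth.Agent.Helper7.Wt

open CategoryTheory CategoryTheory.Limits AlgebraicGeometry TopologicalSpace Opposite IsLocalRing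
open Groth.Agent.Helper7.FinDeg Field

universe u

/-! helper7: weighting of a flat locally quasi-finite morphism: fibre length times inseparable residue degree -/

variable {X Y : Scheme.{u}}

/-- the inseparable residue degree -/
noncomputable def insepDeg (h : X ⟶ Y) (x : X) : ℕ :=
  letI := (h.residueFieldMap x).hom.toAlgebra
  Field.finInsepDegree (Y.residueField (h x)) (X.residueField x)

/-- the separable residue degree -/
noncomputable def sepDeg (h : X ⟶ Y) (x : X) : ℕ :=
  letI := (h.residueFieldMap x).hom.toAlgebra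
  Field.finSepDegree (Y.residueField (h x)) (X.residueField x)

theorem sepDeg_mul_insepDeg (h : X ⟶ Y) (x : X) :
    sepDeg h x * insepDeg h x = h.residueDegree x := by
  letI := (h.residueFieldMap x).hom.toAlgebra
  exact Field.finSepDegree_mul_finInsepDegree (Y.residueField (h x)) (X.residueField x)

theorem insepDeg_comp {Z : Scheme.{u}} (a : X ⟶ Y) (b : Y ⟶ Z) (x : X)
    (halg : letI := (b.residueFieldMap (a x)).hom.toAlgebra
      Algebra.IsAlgebraic (Z.residueField (b (a x))) (Y.residueField (a x))) :
    insepDeg (a ≫ b) x = insepDeg b (a x) * insepDeg a x := by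
  letI alg1 : Algebra (Z.residueField (b (a x))) (Y.residueField (a x)) :=
    (b.residueFieldMap (a x)).hom.toAlgebra
  letI alg2 : Algebra (Y.residueField (a x)) (X.residueField x) :=
    (a.residueFieldMap x).hom.toAlgebra
  letI alg3 : Algebra (Z.residueField (b (a x))) (X.residueField x) :=
    ((a ≫ b).residueFieldMap x).hom.toAlgebra
  have hcomp : (a ≫ b).residueFieldMap x = b.residueFieldMap (a x) ≫ a.residueFieldMap x := by
    simp
  haveI tower : IsScalarTower (Z.residueField (b (a x))) (Y.residueField (a x))
      (X.residueField x) :=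
    IsScalarTower.of_algebraMap_eq (fun c => by
      show ((a ≫ b).residueFieldMap x).hom c =
        (a.residueFieldMap x).hom ((b.residueFieldMap (a x)).hom c)
      rw [hcomp]
      rfl)
  haveI : Algebra.IsAlgebraic (Z.residueField (b (a x))) (Y.residueField (a x)) := halg
  exact (Field.finInsepDegree_mul_finInsepDegree_of_isAlgebraic (Z.residueField (b (a x)))
    (Y.residueField (a x)) (X.residueField x)).symm

theorem insepDeg_eq_one_of_unramified (h : X ⟶ Y) [LocallyOfFiniteType h]
    [FormallyUnramified h] (x : X) : insepDeg h x = 1 := by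
  letI := (h.residueFieldMap x).hom.toAlgebra
  haveI : Algebra.IsSeparable (Y.residueField (h x)) (X.residueField x) := inferInstance
  exact (isSeparable_iff_finInsepDegree_eq_one _ _).mp inferInstance

theorem ram_eq_one_of_unramified (h : X ⟶ Y) [LocallyOfFiniteType h]
    [FormallyUnramified h] (x : X) : ram h x = 1 := by
  algebraize [(h.stalkMap x).hom]
  haveI : IsLocalHom (algebraMap (Y.presheaf.stalk (h x)) (X.presheaf.stalk x)) :=
    inferInstanceAs (IsLocalHom (h.stalkMap x).hom)
  haveI : Algebra.EssFiniteType (Y.presheaf.stalk (h x)) (X.presheaf.stalk x) := by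
    rw [← RingHom.essFiniteType_algebraMap, RingHom.algebraMap_toAlgebra]
    exact LocallyOfFiniteType.stalkMap h x
  haveI : Algebra.FormallyUnramified (Y.presheaf.stalk (h x)) (X.presheaf.stalk x) := by
    rw [← RingHom.formallyUnramified_algebraMap, RingHom.algebraMap_toAlgebra]
    exact FormallyUnramified.stalkMap h x
  have hmax : Ideal.map (algebraMap (Y.presheaf.stalk (h x)) (X.presheaf.stalk x))
      (maximalIdeal (Y.presheaf.stalk (h x))) = maximalIdeal (X.presheaf.stalk x) :=
    Algebra.FormallyUnramified.map_maximalIdeal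
  have hmax' : Ideal.map (h.stalkMap x).hom (maximalIdeal (Y.presheaf.stalk (h x))) =
      maximalIdeal (X.presheaf.stalk x) := hmax
  unfold ram
  rw [hmax']
  have h2 : Module.length (X.presheaf.stalk x)
      (X.presheaf.stalk x ⧸ maximalIdeal (X.presheaf.stalk x)) = 1 := by
    rw [Module.length_eq_one_iff]
    exact isSimpleModule_iff_isCoatom.mpr (Ideal.isMaximal_def.mp inferInstance)
  rw [h2]
  rfl

theorem ram_comp {Z : Scheme.{u}} (a : X ⟶ Y) (b : Y ⟶ Z) [Flat a] (x : X) :
    ram (a ≫ b) x = ram b (a x) * ram a x :=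
  (congrArg ENat.toNat (Groth.Agent.Helper7.CycPull.length_stalk_comp a b x)).trans
    (ENat.toNat_mul _ _)

/-- invariance of the fibre multiplicity and of the inseparable residue degree in a commutative
square with unramified flat vertical maps -/
theorem square {U X V Y : Scheme.{u}} (pr : U ⟶ X) (π : U ⟶ V) (f : X ⟶ Y) (g : V ⟶ Y)
    (hsq : pr ≫ f = π ≫ g) [Flat pr] [Flat π]
    [LocallyOfFiniteType pr] [FormallyUnramified pr] [LocallyOfFiniteType g]
    [FormallyUnramified g] (u : U)
    (halg : letI := (f.residueFieldMap (pr u)).hom.toAlgebra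
      Algebra.IsAlgebraic (Y.residueField (f (pr u))) (X.residueField (pr u))) :
    ram π u = ram f (pr u) ∧ insepDeg π u = insepDeg f (pr u) := by
  constructor
  · have h1 := ram_comp pr f u
    have h2 := ram_comp π g u
    rw [hsq] at h1
    rw [h1, ram_eq_one_of_unramified pr u, ram_eq_one_of_unramified g (π u), mul_one,
      one_mul] at h2
    exact h2.symm
  · have halg2 : letI := (g.residueFieldMap (π u)).hom.toAlgebra
        Algebra.IsAlgebraic (Y.residueField (g (π u))) (V.residueField (π u)) := by
      letI := (g.residueFieldMap (π u)).hom.toAlgebra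
      haveI : Algebra.IsSeparable (Y.residueField (g (π u))) (V.residueField (π u)) :=
        inferInstance
      infer_instance
    have h1 := insepDeg_comp pr f u halg
    have h2 := insepDeg_comp π g u halg2
    rw [hsq] at h1
    rw [h1, insepDeg_eq_one_of_unramified pr u, insepDeg_eq_one_of_unramified g (π u), mul_one,
      one_mul] at h2
    exact h2.symm

theorem ram_pos_of_quasiFiniteAt (f : X ⟶ Y) (x : X) (h : f.QuasiFiniteAt x) :
    0 < ram f x := by
  unfold ram
  have hloc : IsLocalHom (f.stalkMap x).hom := inferInstance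
  have hle : Ideal.map (f.stalkMap x).hom (maximalIdeal (Y.presheaf.stalk (f x))) ≤
      maximalIdeal (X.presheaf.stalk x) :=
    ((IsLocalRing.local_hom_TFAE (f.stalkMap x).hom).out 0 2).mp hloc
  have hne : Ideal.map (f.stalkMap x).hom (maximalIdeal (Y.presheaf.stalk (f x))) ≠ ⊤ :=
    fun h' => (maximalIdeal.isMaximal (X.presheaf.stalk x)).ne_top (top_le_iff.mp (h' ▸ hle))
  obtain ⟨I, hI⟩ : ∃ I : Ideal (X.presheaf.stalk x),
      I = Ideal.map (f.stalkMap x).hom (maximalIdeal (Y.presheaf.stalk (f x))) := ⟨_, rfl⟩
  rw [← hI] at hne ⊢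
  haveI : Nontrivial (X.presheaf.stalk x ⧸ I) := Ideal.Quotient.nontrivial_iff.mpr hne
  apply ENat.toNat_pos
  · exact (Module.length_pos (R := X.presheaf.stalk x) (M := X.presheaf.stalk x ⧸ I)).ne'
  · have hψ : ((Ideal.Quotient.mk I).comp (f.stalkMap x).hom).QuasiFinite :=
      (RingHom.QuasiFinite.of_finite
        (RingHom.Finite.of_surjective _ Ideal.Quotient.mk_surjective)).comp h
    let χ : ResidueField (Y.presheaf.stalk (f x)) →+* X.presheaf.stalk x ⧸ I :=
      Ideal.Quotient.lift (maximalIdeal (Y.presheaf.stalk (f x)))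
        ((Ideal.Quotient.mk I).comp (f.stalkMap x).hom) (fun a ha => by
          show Ideal.Quotient.mk I ((f.stalkMap x).hom a) = 0
          rw [Ideal.Quotient.eq_zero_iff_mem, hI]
          exact Ideal.mem_map_of_mem _ ha)
    have hχ : χ.comp (IsLocalRing.residue (Y.presheaf.stalk (f x))) =
        (Ideal.Quotient.mk I).comp (f.stalkMap x).hom := by
      ext a
      rfl
    have hχQF : χ.QuasiFinite :=
      RingHom.QuasiFinite.of_comp (g := IsLocalRing.residue (Y.presheaf.stalk (f x)))
        (by rw [hχ]; exact hψ)
    algebraize [χ]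
    haveI : Algebra.QuasiFinite (ResidueField (Y.presheaf.stalk (f x)))
        (X.presheaf.stalk x ⧸ I) := hχQF
    haveI : Module.Finite (ResidueField (Y.presheaf.stalk (f x))) (X.presheaf.stalk x ⧸ I) :=
      Module.Finite.of_quasiFinite
    haveI : IsArtinianRing (X.presheaf.stalk x ⧸ I) :=
      IsArtinianRing.of_finite (ResidueField (Y.presheaf.stalk (f x))) (X.presheaf.stalk x ⧸ I)
    have hfl : IsFiniteLength (X.presheaf.stalk x ⧸ I) (X.presheaf.stalk x ⧸ I) :=
      (isArtinianRing_iff_isFiniteLength _).mp inferInstance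
    have h1 : Module.length (X.presheaf.stalk x) (X.presheaf.stalk x ⧸ I) =
        Module.length (X.presheaf.stalk x ⧸ I) (X.presheaf.stalk x ⧸ I) :=
      Module.length_eq_of_surjective Ideal.Quotient.mk_surjective
    rw [h1, Module.length_ne_top_iff]
    exact hfl

theorem S1421_main (f : X ⟶ Y) [LocallyQuasiFinite f] [Flat f]
    [LocallyOfFinitePresentation f] :
    let w : ↑X → ℤ := fun x =>
      (Module.length ↑(X.presheaf.stalk x) (↑(X.presheaf.stalk x) ⧸ Ideal.map (f.stalkMap x).hom (IsLocalRing.maximalIdeal ↑(Y.presheaf.stalk (f x))))).toNat *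
      (letI := (f.residueFieldMap x).hom.toAlgebra
       (Field.finInsepDegree (Y.residueField (f x)) (X.residueField x) : ℤ))
    MoreMor.IsWeighting f w ∧ ∀ x, 0 < w x := by
  intro w
  have hw : ∀ x, w x = (ram f x : ℤ) * (insepDeg f x : ℤ) := fun x => rfl
  have hfinres : ∀ x : X, letI := (f.residueFieldMap x).hom.toAlgebra
      Module.Finite (Y.residueField (f x)) (X.residueField x) := fun x =>
    Groth.Agent.Lib.Helper6.EtLoc.finite_residueFieldMap_of_quasiFiniteAt f x (f.quasiFiniteAt x)
  constructor
  · intro V g _ U hfin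
    haveI := hfin
    have key : MoreMor.fibreIntegral (U.ι ≫ pullback.snd f g)
        (fun u => w (pullback.fst f g (U.ι u))) =
        fun v => ((U.ι ≫ pullback.snd f g).finrank v : ℤ) := by
      funext v
      rw [← sum_ram_residueDegree (U.ι ≫ pullback.snd f g) v]
      unfold MoreMor.fibreIntegral
      refine finsum_congr fun u => ?_
      have hsq : (U.ι ≫ pullback.fst f g) ≫ f = (U.ι ≫ pullback.snd f g) ≫ g := by
        rw [Category.assoc, Category.assoc, pullback.condition]
      have halg : letI := (f.residueFieldMap ((U.ι ≫ pullback.fst f g) u.1)).hom.toAlgebra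
          Algebra.IsAlgebraic (Y.residueField (f ((U.ι ≫ pullback.fst f g) u.1)))
            (X.residueField ((U.ι ≫ pullback.fst f g) u.1)) := by
        letI := (f.residueFieldMap ((U.ι ≫ pullback.fst f g) u.1)).hom.toAlgebra
        haveI := hfinres ((U.ι ≫ pullback.fst f g) u.1)
        exact Algebra.IsAlgebraic.of_finite _ _
      obtain ⟨h1, h2⟩ := square (U.ι ≫ pullback.fst f g) (U.ι ≫ pullback.snd f g) f g hsq
        u.1 halg
      have h3 := sepDeg_mul_insepDeg (U.ι ≫ pullback.snd f g) u.1
      show w (pullback.fst f g (U.ι u.1)) * (sepDeg (U.ι ≫ pullback.snd f g) u.1 : ℤ) =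
        (ram (U.ι ≫ pullback.snd f g) u.1 : ℤ) *
          ((U.ι ≫ pullback.snd f g).residueDegree u.1 : ℤ)
      rw [← h3, h1, h2]
      have hwu : w (pullback.fst f g (U.ι u.1)) =
          (ram f ((U.ι ≫ pullback.fst f g) u.1) : ℤ) *
            (insepDeg f ((U.ι ≫ pullback.fst f g) u.1) : ℤ) := rfl
      rw [hwu]
      push_cast
      ring
    rw [key]
    exact (Scheme.Hom.isLocallyConstant_finrank (U.ι ≫ pullback.snd f g)).comp
      (fun n : ℕ => (n : ℤ))
  · intro x
    rw [hw]
    have h1 : 0 < ram f x := ram_pos_of_quasiFiniteAt f x (f.quasiFiniteAt x)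
    have h2 : 0 < insepDeg f x := by
      letI := (f.residueFieldMap x).hom.toAlgebra
      haveI := hfinres x
      show 0 < Module.finrank (separableClosure (Y.residueField (f x)) (X.residueField x))
        (X.residueField x)
      exact Module.finrank_pos
    exact mul_pos (by exact_mod_cast h1) (by exact_mod_cast h2)

end Groth.Agent.Helper7.Wt
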